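import Mathlib
import Cfsg.Prelude.Def_OddOrderLocal
import Cfsg.Prelude.Def_LieExceptional
import Cfsg.Agent.S4066
import Cfsg.Agent.Lib.CNGroup.Structure

/-!
# Groups in which all element centralisers are trivial intersection sets: generalities
-/

set_option autoImplicit false
set_option linter.style.haveILetI false
set_option linter.unusedSimpArgs false

namespace CfsgLib.TICent79

open Subgroup

universe u

variable {G : Type u} [Group G]

/-- Every element centraliser is a trivial intersection set. -/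
def TICent (G : Type u) [Group G] : Prop :=
  ∀ x : G, Cfsg.IsTISubset (Subgroup.centralizer ({x} : Set G) : Set G)

theorem mem_cent {a y : G} : y ∈ centralizer ({a} : Set G) ↔ Commute y a :=
  ⟨fun h => mem_centralizer_singleton_iff.1 h, fun h => mem_centralizer_singleton_iff.2 h.eq⟩

theorem TICent.mem_norm (h : TICent G) {a y g : G} (hy : y ≠ 1) (h1 : Commute y a)
    (h2 : Commute (g * y * g⁻¹) a) :
    g ∈ normalizer (centralizer ({a} : Set G) : Set G) :=
  Cfsg.Agent.S4066.mem_normalizer_of_commute h hy h1 h2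

theorem commute_conj_iff (g a b : G) :
    Commute (g * a * g⁻¹) (g * b * g⁻¹) ↔ Commute a b := by
  constructor
  · intro h
    have := h.map (MulAut.conj g⁻¹).toMonoidHom
    simpa [mul_assoc] using this
  · intro h
    have := h.map (MulAut.conj g).toMonoidHom
    simpa [mul_assoc] using this

theorem TICent.of_injective (h : TICent G) {A : Type*} [Group A] (f : A →* G)
    (hf : Function.Injective f) (x : A) :
    Cfsg.IsTISubset (Subgroup.centralizer ({x} : Set A) : Set A) := by
  intro g hg y hy hgy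
  by_contra hy1
  apply hg
  have hN := h.mem_norm (a := f x) (y := f y) (g := f g) (fun e => hy1 (hf (e.trans f.map_one.symm)))
    ((mem_cent.1 hy).map f) (by
      have := (mem_cent.1 (SetLike.mem_coe.1 hgy)).map f
      simpa using this)
  refine mem_normalizer_iff.2 fun n => ?_
  have hn : ∀ m : A, Commute (f m) (f x) ↔ Commute m x := fun m =>
    ⟨fun e => hf (by rw [map_mul, map_mul]; exact e.eq), fun e => e.map f⟩
  simp only [SetLike.mem_coe, mem_cent]
  rw [← hn n, ← hn (g * n * g⁻¹)]
  have := (mem_normalizer_iff.1 hN) (f n)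
  simp only [SetLike.mem_coe, mem_cent] at this
  simpa using this

theorem TICent.isNilpotent_of_center [Finite G] (h : TICent G) {c : G} (hc : c ≠ 1)
    (hcc : ∀ g : G, Commute c g) : Group.IsNilpotent G := by
  have hcomm : ∀ x g : G, Commute x (g * x * g⁻¹) := by
    intro x g
    have hg : g ∈ normalizer (centralizer ({x} : Set G) : Set G) := by
      refine h.mem_norm hc (hcc x) ?_
      rw [show g * c * g⁻¹ = c by rw [(hcc g).eq.symm, mul_inv_cancel_right]]
      exact hcc x
    exact (mem_cent.1 (((mem_normalizer_iff.1 hg) x).1 (mem_cent.2 (Commute.refl x)))).symm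
  refine ((Group.isNilpotent_of_finite_tfae (G := G)).out 0 3 rfl rfl).2 fun p hp P => ?_
  refine ⟨fun n hn g => ?_⟩
  haveI := hp
  obtain ⟨k, hk⟩ := P.isPGroup' ⟨n, hn⟩
  have hk' : n ^ p ^ k = 1 := congrArg Subtype.val hk
  refine Cfsg.Agent.S4066.mem_sylow_of_commute_conj _ ⟨k, ?_⟩ (fun g' => ?_) P
  · rw [conj_pow, hk', mul_one, mul_inv_cancel]
  · exact hcomm _ g'

theorem TICent.isCN [Finite G] (h : TICent G) : Cfsg.IsCNGroup G := by
  intro x hx
  refine TICent.isNilpotent_of_center (G := ↥(centralizer ({x} : Set G)))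
    (fun y => h.of_injective (centralizer ({x} : Set G)).subtype Subtype.coe_injective y)
    (c := ⟨x, mem_cent.2 (Commute.refl x)⟩) (fun e => hx (congrArg Subtype.val e)) fun g => ?_
  exact Subtype.ext (mem_cent.1 g.2).eq.symm

/-- An element commuting with all its conjugates forces a normal Sylow subgroup. -/
theorem TICent.exists_normal_sylow [Finite G] (h : TICent G) {w : G} (hw1 : w ≠ 1)
    (hw : ∀ g : G, Commute w (g * w * g⁻¹)) :
    ∃ (p : ℕ) (_ : Fact p.Prime) (P : Sylow p G), (P : Subgroup G).Normal ∧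
      (P : Subgroup G) ≠ ⊥ := by
  obtain ⟨p, hp, hpd⟩ := Nat.exists_prime_and_dvd (n := orderOf w)
    (fun e => hw1 (orderOf_eq_one_iff.1 e))
  haveI := Fact.mk hp
  set v := w ^ (orderOf w / p) with hv
  have hvo : orderOf v = p := orderOf_pow_orderOf_div (orderOf_pos w).ne' hpd
  have hv1 : v ≠ 1 := fun e => hp.ne_one (by rw [← hvo, e, orderOf_one])
  have hvc : ∀ g : G, Commute v (g * v * g⁻¹) := fun g => by
    rw [hv, ← conj_pow]
    exact (hw g).pow_pow _ _
  have hmem : ∀ P : Sylow p G, v ∈ (P : Subgroup G) :=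
    Cfsg.Agent.S4066.mem_sylow_of_commute_conj v
      ⟨1, by rw [pow_one, ← hvo]; exact pow_orderOf_eq_one v⟩ hvc
  obtain ⟨P⟩ : Nonempty (Sylow p G) := inferInstance
  haveI : Nontrivial (P : Subgroup G) :=
    ⟨⟨⟨v, hmem P⟩, 1, fun e => hv1 (congrArg Subtype.val e)⟩⟩
  haveI := P.isPGroup'.center_nontrivial
  obtain ⟨⟨z, hz⟩, hz1⟩ := exists_ne (1 : Subgroup.center (P : Subgroup G))
  have hzP : ∀ x ∈ (P : Subgroup G), Commute x (z : G) := fun x hx =>
    congrArg Subtype.val (Subgroup.mem_center_iff.1 hz ⟨x, hx⟩)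
  have hconjP : ∀ g : G, g * v * g⁻¹ ∈ (P : Subgroup G) := fun g => by
    refine Cfsg.Agent.S4066.mem_sylow_of_commute_conj _ ⟨1, ?_⟩ (fun g' => ?_) P
    · rw [pow_one, conj_pow, ← hvo, pow_orderOf_eq_one, mul_one, mul_inv_cancel]
    · rw [show g' * (g * v * g⁻¹) * g'⁻¹ = g * ((g⁻¹ * g' * g) * v * (g⁻¹ * g' * g)⁻¹) * g⁻¹ by
        group]
      exact (commute_conj_iff g _ _).2 (hvc _)
  haveI : (centralizer ({(z : G)} : Set G)).Normal :=
    normalizer_eq_top_iff.1 ((eq_top_iff' _).2 fun g =>
      h.mem_norm hv1 (hzP v (hmem P)) (hzP _ (hconjP g)))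
  have hPle : (P : Subgroup G) ≤ centralizer ({(z : G)} : Set G) := fun x hx =>
    mem_cent.2 (hzP x hx)
  refine ⟨p, inferInstance, P, ?_, ?_⟩
  · have hn := CfsgLib.CNGroup.normal_map_sylow
      (h.isCN (z : G) fun e => hz1 (Subtype.ext (Subtype.ext e))) (P.subtype hPle)
    rwa [Sylow.coe_subtype, subgroupOf_map_subtype, inf_eq_left.2 hPle] at hn
  · exact fun e => hv1 (by simpa [e] using hmem P)

theorem quaternion_bound {m : ℕ} [NeZero m]
    (h : ∀ x : QuaternionGroup m,
      Cfsg.IsTISubset (Subgroup.centralizer ({x} : Set (QuaternionGroup m)) :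
        Set (QuaternionGroup m))) : m ∣ 2 := by
  have hm : QuaternionGroup.a (m : ZMod (2 * m)) ≠ 1 := by
    intro e
    have := QuaternionGroup.a.inj (e.trans QuaternionGroup.one_def)
    rw [ZMod.natCast_eq_zero_iff] at this
    have := Nat.le_of_dvd (Nat.pos_of_ne_zero (NeZero.ne m)) this
    have := Nat.pos_of_ne_zero (NeZero.ne m)
    omega
  have hcm : ∀ g : QuaternionGroup m, Commute (QuaternionGroup.a (m : ZMod (2 * m))) g := by
    have h2 : (m : ZMod (2 * m)) + m = 0 := by
      rw [← Nat.cast_add, ZMod.natCast_eq_zero_iff]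
      exact ⟨1, by ring⟩
    intro g
    cases g with
    | a i => show _ = _; simp [add_comm]
    | xa i =>
      show _ = _
      simp only [QuaternionGroup.a_mul_xa, QuaternionGroup.xa_mul_a]
      congr 1
      linear_combination -h2
  have hN := TICent.mem_norm h (a := QuaternionGroup.xa 0) (g := QuaternionGroup.a 1) hm (hcm _)
    (by rw [← (hcm (QuaternionGroup.a 1)).eq, mul_inv_cancel_right]; exact hcm _)
  have hc := mem_cent.1 (((mem_normalizer_iff.1 hN) (QuaternionGroup.xa 0)).1
    (mem_cent.2 (Commute.refl _)))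
  have e : QuaternionGroup.a 1 * QuaternionGroup.xa (0 : ZMod (2 * m)) * (QuaternionGroup.a 1)⁻¹
      = QuaternionGroup.xa (-2) := by
    show _ * QuaternionGroup.a (-1) = _
    simp only [QuaternionGroup.a_mul_xa, QuaternionGroup.xa_mul_a]
    congr 1; ring
  have hc' := hc.eq
  rw [e] at hc'
  simp only [QuaternionGroup.xa_mul_xa] at hc'
  have h4 : ((4 : ℕ) : ZMod (2 * m)) = 0 := by
    push_cast
    linear_combination QuaternionGroup.a.inj hc'
  rw [ZMod.natCast_eq_zero_iff] at h4
  exact Nat.dvd_of_mul_dvd_mul_left (by norm_num : 0 < 2) h4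

end CfsgLib.TICent79
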