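import Cfsg.Agent.Lib.TICent79.Local
import Cfsg.Agent.Lib.CNCount.LinearChars

/-!
# The point stabiliser is transitive on the remaining cosets

The inequality comes from the positivity of the squared imaginary part of an induced linear
character of the point stabiliser.
-/

set_option autoImplicit false
set_option linter.style.haveILetI false
set_option linter.unusedSimpArgs false

namespace CfsgLib.TICent79

open Subgroup
open scoped ComplexConjugate

universe u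

namespace Setup

variable {G : Type u} [Group G] (S : Setup G) [Finite G]
variable {u : G} (hu : orderOf u = 2) (huM : u ∉ S.M)

include hu huM in
/-- A linear character of `M` trivial on `H` whose square is non-trivial. -/
theorem exists_char : ∃ φ : ↥S.M →* ℂˣ, (∀ m : ↥S.M, (m : G) ∈ S.H → φ m = 1) ∧
    ∃ m : ↥S.M, φ m * φ m ≠ 1 := by
  classical
  have hex : ∀ m : ↥S.M, ∃ d ∈ S.D u, d⁻¹ * (m : G) ∈ S.H := fun m => S.exists_mul hu huM m.2
  choose π hπD hπH using hex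
  have huniq : ∀ (m : ↥S.M) (d : G), d ∈ S.D u → d⁻¹ * (m : G) ∈ S.H → π m = d := by
    intro m d hd hdm
    have h1 : d⁻¹ * π m ∈ S.H := by
      have := mul_mem hdm (inv_mem (hπH m))
      simpa [mul_assoc] using this
    exact (inv_mul_eq_one.1 (S.D_inf_H hu huM (mul_mem (inv_mem hd) (hπD m)) h1)).symm
  let f : ↥S.M →* ↥(S.D u) := MonoidHom.mk' (fun m => ⟨π m, hπD m⟩) fun a b => Subtype.ext (by
    refine huniq _ _ (mul_mem (hπD a) (hπD b)) ?_
    have hb : π b ∈ S.M := ((S.mem_D hu).1 (hπD b)).1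
    have := mul_mem (S.conj_mem (inv_mem hb) (hπH a)) (hπH b)
    simpa [mul_assoc] using this)
  haveI : Nontrivial ↥(S.D u) := Finite.one_lt_card_iff_nontrivial.1
    (by rw [S.card_D hu huM]; exact S.one_lt_r)
  obtain ⟨d, hd⟩ := exists_ne (1 : ↥(S.D u))
  have hcomm : commutator ↥(S.D u) = ⊥ := by
    rw [commutator_def, eq_bot_iff, commutator_le]
    intro a _ b _
    rw [mem_bot, commutatorElement_eq_one_iff_mul_comm]
    exact Subtype.ext (S.D_comm hu huM a.2 b.2)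
  obtain ⟨χ, hχ⟩ := CfsgLib.CNCount.exists_unitsHom_ne_one (K := ↥(S.D u)) (x := d)
    (by rw [hcomm, mem_bot]; exact hd)
  refine ⟨χ.comp f, fun m hm => ?_, ⟨d, ((S.mem_D hu).1 d.2).1⟩, ?_⟩
  · have : f m = 1 := Subtype.ext (huniq m 1 (one_mem _) (by simpa using hm))
    simp [this]
  · have hfd : f ⟨d, ((S.mem_D hu).1 d.2).1⟩ = d :=
      Subtype.ext (huniq _ _ d.2 (by simp [S.H.one_mem]))
    rw [MonoidHom.comp_apply, hfd]
    intro h2
    apply hχ
    obtain ⟨k, hk⟩ := S.odd_D hu huM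
    have h1 : χ d ^ Nat.card ↥(S.D u) = 1 := by rw [← map_pow, pow_card_eq_one', map_one]
    rw [hk, pow_succ, pow_mul, pow_two, h2, one_pow, one_mul] at h1
    exact h1

theorem norm_eq_one (φ : ↥S.M →* ℂˣ) (m : ↥S.M) :
    (φ m : ℂ) * conj (φ m : ℂ) = 1 := by
  have h1 : (φ m : ℂ) ^ Nat.card ↥S.M = 1 := by
    rw [← Units.val_pow_eq_pow_val, ← map_pow, pow_card_eq_one', map_one, Units.val_one]
  have h2 := Complex.norm_eq_one_of_pow_eq_one h1 Nat.card_pos.ne'
  rw [Complex.mul_conj, Complex.normSq_eq_norm_sq, h2]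
  norm_num

open scoped Classical in
theorem sum_hom {K : Type*} [Group K] [Fintype K] (ψ : K →* ℂˣ) {k₀ : K} (h : ψ k₀ ≠ 1) :
    ∑ k : K, (ψ k : ℂ) = 0 := by
  have h1 : (ψ k₀ : ℂ) * ∑ k : K, (ψ k : ℂ) = ∑ k : K, (ψ k : ℂ) := by
    rw [Finset.mul_sum]
    refine Fintype.sum_equiv (Equiv.mulLeft k₀) _ _ fun k => ?_
    rw [Equiv.coe_mulLeft, map_mul, Units.val_mul]
  by_contra hne
  exact h (Units.ext ((mul_eq_right₀ hne).1 h1))

/-- A representative of a coset. -/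
noncomputable def σ (x : G ⧸ S.M) : G := x.out

theorem σ_spec (x : G ⧸ S.M) : ((S.σ x : G) : G ⧸ S.M) = x := x.out_eq'

open scoped Classical in
/-- The contribution of a coset to the induced character. -/
noncomputable def term (φ : ↥S.M →* ℂˣ) (x : G ⧸ S.M) (g : G) : ℂ :=
  if h : (S.σ x)⁻¹ * g * S.σ x ∈ S.M then (φ ⟨_, h⟩ : ℂ) else 0

theorem term_self_sum [Fintype G] [Fintype ↥S.M] (φ : ↥S.M →* ℂˣ) (x : G ⧸ S.M)
    (f : ℂ → ℂ) (hf : f 0 = 0) :
    ∑ g : G, f (S.term φ x g) = ∑ m : ↥S.M, f (φ m : ℂ) := by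
  classical
  symm
  refine Finset.sum_of_injOn (fun m : ↥S.M => S.σ x * (m : G) * (S.σ x)⁻¹) ?_ ?_ ?_ ?_
  · intro a _ b _ h
    exact Subtype.ext (mul_left_cancel (mul_right_cancel h))
  · intro a _; exact Finset.mem_univ _
  · intro g _ hg
    rw [term, dif_neg, hf]
    intro h
    refine hg ⟨⟨_, h⟩, Finset.mem_univ _, ?_⟩
    simp [mul_assoc]
  · intro m _
    have e : (S.σ x)⁻¹ * (S.σ x * (m : G) * (S.σ x)⁻¹) * S.σ x = m := by group
    rw [term, dif_pos (by rw [e]; exact m.2)]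
    congr 2
    exact congrArg φ (Subtype.ext e.symm)

theorem term_pair [Fintype G] (φ : ↥S.M →* ℂˣ) (hφ : ∀ m : ↥S.M, (m : G) ∈ S.H → φ m = 1)
    (hφ2 : ∃ m : ↥S.M, φ m * φ m ≠ 1) {x y : G ⧸ S.M} (hxy : x ≠ y) :
    ∑ g : G, S.term φ x g * S.term φ y g = (S.r : ℂ) ∧
      ∑ g : G, S.term φ x g * conj (S.term φ y g) = 0 := by
  classical
  obtain ⟨⟨i, hi2, hixy⟩⟩ : Nonempty {i : G // orderOf i = 2 ∧ i • x = y} := by
    by_contra hne
    rw [not_nonempty_iff] at hne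
    have h := Cfsg.Agent.S1224.result S.M S.se x y hxy
    rw [Nat.card_of_isEmpty] at h
    have := S.one_lt_r
    rw [r, ← h] at this
    omega
  have hii : i * i = 1 := u_sq hi2
  set v := (S.σ x)⁻¹ * i * S.σ x with hv
  have hv2 : orderOf v = 2 := by
    rw [hv]
    have := CfsgLib.Involutions.orderOf_conj_eq (S.σ x)⁻¹ i
    rw [inv_inv] at this
    rw [this, hi2]
  have hvM : v ∉ S.M := by
    intro h
    refine hxy ?_
    rw [← hixy]
    rw [← S.σ_spec x]
    rw [MulAction.Quotient.smul_mk, smul_eq_mul, QuotientGroup.eq, ← mul_assoc]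
    exact h
  have hm1 : (i * S.σ x)⁻¹ * S.σ y ∈ S.M := by
    rw [← QuotientGroup.eq, S.σ_spec y, ← hixy, ← smul_eq_mul, ← MulAction.Quotient.smul_mk,
      S.σ_spec x]
  obtain ⟨m1, hm1, hy⟩ : ∃ m1 ∈ S.M, S.σ y = i * S.σ x * m1 :=
    ⟨_, hm1, (mul_inv_cancel_left (i * S.σ x) (S.σ y)).symm⟩
  have hb : ∀ g : G, (S.σ y)⁻¹ * g * S.σ y =
      m1⁻¹ * (v * ((S.σ x)⁻¹ * g * S.σ x) * v) * m1 := by
    intro g
    rw [hy, hv, mul_inv_rev, mul_inv_rev, inv_eq_of_mul_eq_one_right hii]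
    group
  have hD : ∀ g : G, (S.σ x)⁻¹ * g * S.σ x ∈ S.M ∧ (S.σ y)⁻¹ * g * S.σ y ∈ S.M ↔
      (S.σ x)⁻¹ * g * S.σ x ∈ S.D v := by
    intro g
    rw [S.mem_D hv2, hb]
    refine and_congr_right fun _ => ⟨fun h => ?_, fun h =>
      mul_mem (mul_mem (inv_mem hm1) h) hm1⟩
    have := mul_mem (mul_mem hm1 h) (inv_mem hm1)
    simpa [mul_assoc] using this
  let φD : ↥(S.D v) →* ℂˣ := φ.comp (Subgroup.inclusion inf_le_left)
  have hterm : ∀ d : ↥(S.D v), S.term φ x (S.σ x * (d : G) * (S.σ x)⁻¹) = (φD d : ℂ) ∧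
      S.term φ y (S.σ x * (d : G) * (S.σ x)⁻¹) = ((φD d)⁻¹ : ℂˣ) := by
    intro d
    have e : (S.σ x)⁻¹ * (S.σ x * (d : G) * (S.σ x)⁻¹) * S.σ x = d := by group
    have hd := S.inverted hv2 hvM d.2
    have e2 : (S.σ y)⁻¹ * (S.σ x * (d : G) * (S.σ x)⁻¹) * S.σ y = m1⁻¹ * (d : G)⁻¹ * m1 := by
      rw [hb, e, hd]
    have hdM : (d : G) ∈ S.M := ((S.mem_D hv2).1 d.2).1
    constructor
    · rw [term, dif_pos (by rw [e]; exact hdM)]
      congr 1
      exact congrArg φ (Subtype.ext e)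
    · rw [term, dif_pos (by rw [e2]; exact mul_mem (mul_mem (inv_mem hm1) (inv_mem hdM)) hm1)]
      congr 1
      have : φ (⟨m1, hm1⟩⁻¹ * ⟨d, hdM⟩⁻¹ * ⟨m1, hm1⟩) = (φ ⟨d, hdM⟩)⁻¹ := by
        rw [map_mul, map_mul, map_inv, map_inv, mul_comm (φ ⟨m1, hm1⟩)⁻¹, mul_assoc,
          inv_mul_cancel, mul_one]
      exact (congrArg φ (Subtype.ext e2)).trans this
  haveI : Fintype ↥(S.D v) := Fintype.ofFinite _
  have hsum : ∀ F : ℂ → ℂ → ℂ, (∀ b, F 0 b = 0) → (∀ a, F a 0 = 0) →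
      ∑ g : G, F (S.term φ x g) (S.term φ y g) =
        ∑ d : ↥(S.D v), F (φD d : ℂ) (((φD d)⁻¹ : ℂˣ) : ℂ) := by
    intro F h0 h0'
    symm
    refine Finset.sum_of_injOn (fun d : ↥(S.D v) => S.σ x * (d : G) * (S.σ x)⁻¹) ?_ ?_ ?_ ?_
    · intro a _ b _ h
      exact Subtype.ext (mul_left_cancel (mul_right_cancel h))
    · intro a _; exact Finset.mem_univ _
    · intro g _ hg
      by_cases h : (S.σ x)⁻¹ * g * S.σ x ∈ S.M
      · by_cases h' : (S.σ y)⁻¹ * g * S.σ y ∈ S.M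
        · refine absurd ⟨⟨_, (hD g).1 ⟨h, h'⟩⟩, Finset.mem_univ _, ?_⟩ hg
          simp [mul_assoc]
        · rw [show S.term φ y g = 0 from dif_neg h', h0']
      · rw [show S.term φ x g = 0 from dif_neg h, h0]
    · intro d _
      rw [(hterm d).1, (hterm d).2]
  constructor
  · rw [hsum (fun a b => a * b) (fun b => zero_mul b) (fun a => mul_zero a)]
    simp [← Units.val_mul, ← Nat.card_eq_fintype_card, S.card_D hv2 hvM]
  · rw [hsum (fun a b => a * conj b) (fun b => zero_mul _) (fun a => by simp)]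
    have hc : ∀ d : ↥(S.D v), (φD d : ℂ) * conj (((φD d)⁻¹ : ℂˣ) : ℂ) =
        (((φD * φD) d : ℂˣ) : ℂ) := by
      intro d
      rw [MonoidHom.mul_apply, Units.val_mul]
      congr 1
      rw [← map_inv]
      have h := S.norm_eq_one φ (Subgroup.inclusion inf_le_left (d⁻¹))
      have h' : (φD d⁻¹ : ℂ) * conj (φD d⁻¹ : ℂ) = 1 := h
      have h2 : (φD d⁻¹ : ℂ) * (φD d : ℂ) = 1 := by
        rw [← Units.val_mul, ← map_mul, inv_mul_cancel, map_one, Units.val_one]
      exact mul_left_cancel₀ (Units.ne_zero (φD d⁻¹)) (h'.trans h2.symm)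
    simp only [hc]
    obtain ⟨⟨m, hm⟩, hm2⟩ := hφ2
    obtain ⟨d, hd, hdm⟩ := S.exists_mul hv2 hvM hm
    refine sum_hom (φD * φD) (k₀ := ⟨d, hd⟩) ?_
    have he : φ ⟨m, hm⟩ = φD ⟨d, hd⟩ := by
      have hdM : d ∈ S.M := ((S.mem_D hv2).1 hd).1
      have : (⟨m, hm⟩ : ↥S.M) = ⟨d, hdM⟩ * ⟨d⁻¹ * m, S.H_le_M hdm⟩ :=
        Subtype.ext (by simp)
      rw [this, map_mul, hφ ⟨d⁻¹ * m, S.H_le_M hdm⟩ hdm, mul_one]
      rfl
    rw [MonoidHom.mul_apply, ← he]
    exact hm2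

include hu huM in
theorem index_sub_one_le : S.M.index - 1 ≤ Nat.card ↥S.H := by
  classical
  haveI : Fintype G := Fintype.ofFinite G
  haveI : Fintype ↥S.M := Fintype.ofFinite _
  haveI : Fintype (G ⧸ S.M) := Fintype.ofFinite _
  obtain ⟨φ, hφ, hφ2⟩ := S.exists_char hu huM
  set F : G → ℂ := fun g => ∑ x : G ⧸ S.M, S.term φ x g with hF
  have hpos : (0 : ℝ) ≤ (∑ g : G, F g * conj (F g)).re - (∑ g : G, F g * F g).re := by
    rw [Complex.re_sum, Complex.re_sum, ← Finset.sum_sub_distrib]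
    refine Finset.sum_nonneg fun g _ => ?_
    simp only [Complex.mul_re, Complex.conj_re, Complex.conj_im]
    nlinarith [sq_nonneg (F g).im]
  have hexp1 : ∑ g : G, F g * F g = ∑ x : G ⧸ S.M, ∑ y : G ⧸ S.M,
      ∑ g : G, S.term φ x g * S.term φ y g := by
    simp only [hF, Finset.sum_mul_sum]
    rw [Finset.sum_comm]
    exact Finset.sum_congr rfl fun x _ => Finset.sum_comm
  have hexp2 : ∑ g : G, F g * conj (F g) = ∑ x : G ⧸ S.M, ∑ y : G ⧸ S.M,
      ∑ g : G, S.term φ x g * conj (S.term φ y g) := by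
    simp only [hF, map_sum, Finset.sum_mul_sum]
    rw [Finset.sum_comm]
    exact Finset.sum_congr rfl fun x _ => Finset.sum_comm
  have hd1 : ∀ x : G ⧸ S.M, ∑ g : G, S.term φ x g * S.term φ x g = 0 := by
    intro x
    rw [S.term_self_sum φ x (fun a => a * a) (mul_zero 0)]
    obtain ⟨m, hm⟩ := hφ2
    simp only [← Units.val_mul, ← MonoidHom.mul_apply]
    exact sum_hom (φ * φ) (k₀ := m) (by rw [MonoidHom.mul_apply]; exact hm)
  have hd2 : ∀ x : G ⧸ S.M, ∑ g : G, S.term φ x g * conj (S.term φ x g) =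
      (Nat.card ↥S.M : ℂ) := by
    intro x
    rw [S.term_self_sum φ x (fun a => a * conj a) (by simp)]
    simp [S.norm_eq_one φ, ← Nat.card_eq_fintype_card]
  have hA : ∑ g : G, F g * conj (F g) = (S.M.index : ℂ) * Nat.card ↥S.M := by
    rw [hexp2, Finset.sum_congr rfl fun x _ => Finset.sum_eq_single x
      (fun y _ hy => (S.term_pair φ hφ hφ2 (Ne.symm hy)).2)
      (fun h => absurd (Finset.mem_univ x) h)]
    simp only [hd2, Finset.sum_const, Finset.card_univ, nsmul_eq_mul, index_eq_card,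
      Nat.card_eq_fintype_card]
  have hB : ∑ g : G, F g * F g = (S.M.index : ℂ) * ((S.M.index - 1 : ℕ) * S.r : ℂ) := by
    rw [hexp1, Finset.sum_congr rfl fun x _ => (show ∑ y : G ⧸ S.M,
        ∑ g : G, S.term φ x g * S.term φ y g = ((S.M.index - 1 : ℕ) : ℂ) * S.r by
      rw [← Finset.add_sum_erase _ _ (Finset.mem_univ x), hd1, zero_add,
        Finset.sum_congr rfl fun y hy => (S.term_pair φ hφ hφ2
          (Ne.symm (Finset.ne_of_mem_erase hy))).1, Finset.sum_const,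
        Finset.card_erase_of_mem (Finset.mem_univ x), Finset.card_univ, nsmul_eq_mul,
        index_eq_card, Nat.card_eq_fintype_card])]
    simp only [Finset.sum_const, Finset.card_univ, nsmul_eq_mul, index_eq_card,
      Nat.card_eq_fintype_card]
  rw [hA, hB] at hpos
  have h1 : (S.M.index : ℝ) * ((S.M.index - 1 : ℕ) * S.r : ℝ) ≤
      (S.M.index : ℝ) * Nat.card ↥S.M := by
    simpa [sub_nonneg] using hpos
  have h2 : S.M.index * ((S.M.index - 1) * S.r) ≤ S.M.index * Nat.card ↥S.M := by exact_mod_cast h1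
  have h3 := Nat.le_of_mul_le_mul_left h2 (Nat.pos_of_ne_zero Subgroup.index_ne_zero_of_finite)
  rw [S.card_M hu huM] at h3
  exact Nat.le_of_mul_le_mul_right h3 (by have := S.one_lt_r; omega)

include hu huM in
/-- `H` is regular on the cosets different from `M`. -/
theorem regular : S.M.index = Nat.card ↥S.H + 1 ∧
    ∀ c d : G ⧸ S.M, c ≠ ((1 : G) : G ⧸ S.M) → d ≠ ((1 : G) : G ⧸ S.M) →
      ∃! k : ↥S.H, (k : G) • c = d := by
  classical
  set a : G ⧸ S.M := ((1 : G) : G ⧸ S.M) with ha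
  have hfix : ∀ k ∈ S.H, ∀ c : G ⧸ S.M, c ≠ a → k • c = c → k = 1 := by
    intro k hk c hc hkc
    obtain ⟨⟨i, hi2, hic⟩⟩ : Nonempty {i : G // orderOf i = 2 ∧ i • a = c} := by
      by_contra hne
      rw [not_nonempty_iff] at hne
      have h := Cfsg.Agent.S1224.result S.M S.se a c (Ne.symm hc)
      rw [Nat.card_of_isEmpty] at h
      have := S.one_lt_r
      rw [r, ← h] at this
      omega
    rw [ha, MulAction.Quotient.smul_mk, smul_eq_mul, mul_one] at hic
    have hiM : i ∉ S.M := fun h => hc (by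
      rw [← hic, ha, QuotientGroup.eq]; simpa using inv_mem h)
    refine S.D_inf_H hi2 hiM ((S.mem_D hi2).2 ⟨S.H_le_M hk, ?_⟩) hk
    rw [← hic, CfsgLib.Involutions.smul_coset_eq_iff,
      inv_eq_of_mul_eq_one_right (u_sq hi2)] at hkc
    exact hkc
  have hmem : ∀ k ∈ S.H, ∀ c : G ⧸ S.M, c ≠ a → k • c ≠ a := by
    intro k hk c hc h
    refine hc ?_
    have hka : k⁻¹ • a = a := by
      rw [ha, CfsgLib.Involutions.smul_coset_eq_iff]
      simpa using inv_mem (S.H_le_M hk)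
    rw [← inv_smul_smul k c, h, hka]
  have hcard : Nat.card {c : G ⧸ S.M // c ≠ a} = S.M.index - 1 := by
    haveI : Fintype (G ⧸ S.M) := Fintype.ofFinite _
    rw [Nat.card_eq_fintype_card, Fintype.card_subtype_compl, Fintype.card_subtype_eq,
      index_eq_card, Nat.card_eq_fintype_card]
  have hbij : ∀ c : {c : G ⧸ S.M // c ≠ a}, Function.Bijective
      (fun k : ↥S.H => (⟨(k : G) • c.1, hmem k k.2 c.1 c.2⟩ : {c : G ⧸ S.M // c ≠ a})) := by
    intro c
    have hinj : Function.Injective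
        (fun k : ↥S.H => (⟨(k : G) • c.1, hmem k k.2 c.1 c.2⟩ : {c : G ⧸ S.M // c ≠ a})) := by
      intro k k' h
      have h' : (k : G) • c.1 = (k' : G) • c.1 := congrArg Subtype.val h
      have := hfix _ (mul_mem (inv_mem k'.2) k.2) c.1 c.2 (by rw [mul_smul, h', inv_smul_smul])
      exact Subtype.ext (inv_mul_eq_one.1 this).symm
    exact hinj.bijective_of_nat_card_le (hcard ▸ S.index_sub_one_le hu huM)
  refine ⟨?_, fun c d hc hd => ?_⟩
  · have hne : (u : G ⧸ S.M) ≠ a := fun h => huM (by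
      rw [ha, QuotientGroup.eq] at h; simpa using inv_mem h)
    have h1 := Nat.card_eq_of_bijective _ (hbij ⟨_, hne⟩)
    have h2 := Nat.pos_of_ne_zero (Subgroup.index_ne_zero_of_finite (H := S.M))
    omega
  · obtain ⟨k, hk, huniq⟩ := (hbij ⟨c, hc⟩).existsUnique ⟨d, hd⟩
    exact ⟨k, congrArg Subtype.val hk, fun k' hk' => huniq k' (Subtype.ext hk')⟩

end Setup

end CfsgLib.TICent79
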