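import Cfsg.Agent.Lib.TICent79.Basic
import Cfsg.Agent.S1224
import Cfsg.Agent.S1225
import Cfsg.Agent.S0042
import Cfsg.Agent.Lib.Frobenius.Basic
import Cfsg.Agent.Lib.Characters.TIFN

/-!
# The involution centraliser in a group with trivial intersection element centralisers
-/

set_option autoImplicit false
set_option linter.style.haveILetI false
set_option linter.unusedSimpArgs false

namespace CfsgLib.TICent79

open Subgroup

universe u

/-- A group with the hypotheses and no element commuting with all of its conjugates, with an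
involution central in a Sylow `2`-subgroup. -/
structure Setup (G : Type u) [Group G] where
  ti : TICent G
  noA : ∀ w : G, (∀ g : G, Commute w (g * w * g⁻¹)) → w = 1
  z : G
  hz : orderOf z = 2
  P : Sylow 2 G
  hP : (P : Subgroup G) ≤ centralizer ({z} : Set G)

namespace Setup

variable {G : Type u} [Group G] (S : Setup G)

/-- The centraliser of the involution. -/
def H : Subgroup G := centralizer ({S.z} : Set G)

/-- Its normaliser. -/
def M : Subgroup G := normalizer (S.H : Set G)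

theorem mem_H {y : G} : y ∈ S.H ↔ Commute y S.z := mem_cent

theorem z_ne : S.z ≠ 1 := fun e => by
  have h := S.hz; rw [e, orderOf_one] at h; omega

theorem z_mem : S.z ∈ S.H := S.mem_H.2 (Commute.refl _)

theorem H_le_M : S.H ≤ S.M := le_normalizer

theorem conj_mem {g y : G} (hg : g ∈ S.M) (hy : y ∈ S.H) : g * y * g⁻¹ ∈ S.H :=
  ((mem_normalizer_iff.1 hg) y).1 hy

theorem H_ne_bot : S.H ≠ ⊥ := fun e => S.z_ne (mem_bot.1 (e ▸ S.z_mem))

theorem ti_H {g y : G} (hy : y ∈ S.H) (hy1 : y ≠ 1) (hgy : g * y * g⁻¹ ∈ S.H) : g ∈ S.M :=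
  S.ti.mem_norm hy1 (S.mem_H.1 hy) (S.mem_H.1 hgy)

theorem commute_mem_M {y c : G} (hy : y ∈ S.H) (hy1 : y ≠ 1) (hc : Commute c y) : c ∈ S.M :=
  S.ti_H hy hy1 (by rwa [hc.eq, mul_inv_cancel_right])

theorem conj_z_commute {g y : G} (hg : g ∈ S.M) (hy : y ∈ S.H) :
    Commute (g * S.z * g⁻¹) y := by
  have h := S.mem_H.1 (S.conj_mem (inv_mem hg) hy)
  have := (commute_conj_iff g _ _).2 h.symm
  simpa [mul_assoc] using this

/-- Every element of `H` commutes with its conjugates under `M`. -/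
theorem commute_conj {g y : G} (hg : g ∈ S.M) (hy : y ∈ S.H) : Commute y (g * y * g⁻¹) := by
  have hN := S.ti.mem_norm (a := y) (g := g) S.z_ne (S.mem_H.1 hy).symm (S.conj_z_commute hg hy)
  exact (mem_cent.1 (((mem_normalizer_iff.1 hN) y).1 (mem_cent.2 (Commute.refl y)))).symm

variable [Finite G]

include S in
theorem no_nilpotent_normal {N : Subgroup G} [N.Normal] (hN : Group.IsNilpotent ↥N) : N = ⊥ := by
  by_contra h
  haveI : Nontrivial ↥N := (nontrivial_iff_ne_bot N).2 h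
  haveI := hN
  haveI : Nontrivial ↥(Subgroup.center ↥N) :=
    (nontrivial_iff_ne_bot _).2 (Group.IsNilpotent.center_ne_bot _)
  obtain ⟨⟨w, hw⟩, hw1⟩ := exists_ne (1 : Subgroup.center ↥N)
  refine hw1 (Subtype.ext (Subtype.ext (S.noA w fun g => ?_)))
  exact (congrArg Subtype.val (Subgroup.mem_center_iff.1 hw
    ⟨g * (w : G) * g⁻¹, ‹N.Normal›.conj_mem _ w.2 g⟩)).symm

theorem nilp : Group.IsNilpotent ↥S.H := S.ti.isCN _ S.z_ne

theorem M_ne_top : S.M ≠ ⊤ := by
  intro h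
  haveI : S.H.Normal := normalizer_eq_top_iff.1 h
  exact S.H_ne_bot (S.no_nilpotent_normal S.nilp)

theorem H_ne_top : S.H ≠ ⊤ := fun h => S.M_ne_top (top_le_iff.1 (h ▸ S.H_le_M))

theorem odd_index : ¬ 2 ∣ S.H.index := fun h =>
  S.P.not_dvd_index (h.trans (index_dvd_of_le S.hP))

/-- A `2`-element of `M` lies in `H`. -/
theorem mem_H_of_two {s : G} (hs : s ∈ S.M) {k : ℕ} (hk : s ^ 2 ^ k = 1) : s ∈ S.H := by
  haveI : (S.H.subgroupOf S.M).Normal := normal_in_normalizer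
  have h1 : orderOf (QuotientGroup.mk ⟨s, hs⟩ : ↥S.M ⧸ S.H.subgroupOf S.M) ∣ 2 ^ k :=
    orderOf_dvd_of_pow_eq_one (by
      rw [← QuotientGroup.mk_pow, show (⟨s, hs⟩ : ↥S.M) ^ 2 ^ k = 1 from Subtype.ext hk]
      rfl)
  have h2 : orderOf (QuotientGroup.mk ⟨s, hs⟩ : ↥S.M ⧸ S.H.subgroupOf S.M) ∣ S.H.index :=
    (_root_.orderOf_dvd_natCard _).trans (by
      rw [← index_eq_card]
      exact relIndex_dvd_index_of_le S.H_le_M)
  have h3 : orderOf (QuotientGroup.mk ⟨s, hs⟩ : ↥S.M ⧸ S.H.subgroupOf S.M) = 1 :=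
    Nat.eq_one_of_dvd_coprimes
      (Nat.Coprime.pow_left k (Nat.prime_two.coprime_iff_not_dvd.2 S.odd_index)) h1 h2
  rw [orderOf_eq_one_iff, QuotientGroup.eq_one_iff, mem_subgroupOf] at h3
  exact h3

theorem involution_mem {s : G} (hs : s ∈ S.M) (h2 : orderOf s = 2) : s ∈ S.H :=
  S.mem_H_of_two hs (k := 1) (by rw [pow_one, ← h2]; exact pow_orderOf_eq_one s)

theorem se : Cfsg.IsStronglyEmbedded S.M := by
  refine ⟨S.M_ne_top, ?_, fun g hg => ?_⟩
  · rw [even_iff_two_dvd, ← S.hz]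
    exact Subgroup.orderOf_dvd_natCard S.M (S.H_le_M S.z_mem)
  by_contra hev
  rw [Nat.not_odd_iff_even] at hev
  obtain ⟨s, hs, hs2⟩ := CfsgLib.Involutions.exists_involution_of_even_card _ hev
  obtain ⟨h1, t, ht, hts⟩ := hs
  have hts' : g * t * g⁻¹ = s := by simpa using hts
  have ht2 : orderOf t = 2 := by
    rw [← CfsgLib.Involutions.orderOf_conj_eq g t, hts']; exact hs2
  refine hg (S.ti_H (S.involution_mem ht ht2) (fun e => ?_) (hts' ▸ S.involution_mem h1 hs2))
  rw [e, orderOf_one] at ht2; omega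

/-- `M` is transitive on its involutions. -/
theorem exists_conj {s : G} (hs : s ∈ S.M) (h2 : orderOf s = 2) :
    ∃ g ∈ S.M, g * S.z * g⁻¹ = s := by
  obtain ⟨g, hg⟩ := isConj_iff.1 (CfsgLib.StrongEmbedding.isConj_involutions S.se S.hz h2)
  exact ⟨g, S.ti_H S.z_mem S.z_ne (hg ▸ S.involution_mem hs h2), hg⟩

/-- Every involution of `M` is central in `H`, with centraliser `H`. -/
theorem cent_involution {s : G} (hs : s ∈ S.M) (h2 : orderOf s = 2) :
    centralizer ({s} : Set G) = S.H := by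
  obtain ⟨g, hg, rfl⟩ := S.exists_conj hs h2
  ext c
  rw [mem_cent]
  constructor
  · intro hc
    have h : g⁻¹ * c * g ∈ S.H := S.mem_H.2 (by
      rw [← commute_conj_iff g]
      simpa [mul_assoc] using hc)
    have := S.conj_mem hg h
    simpa [mul_assoc] using this
  · exact fun hc => (S.conj_z_commute hg hc).symm

theorem commute_involution {s y : G} (hs : s ∈ S.M) (h2 : orderOf s = 2) (hy : y ∈ S.H) :
    Commute y s := mem_cent.1 (S.cent_involution hs h2 ▸ hy)

/-- `H` contains the centralisers of its non-identity elements. -/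
theorem cent_le {y : G} (hy : y ∈ S.H) (hy1 : y ≠ 1) :
    centralizer ({y} : Set G) ≤ S.H := by
  intro c hc
  obtain ⟨k, m, hm, hn⟩ := Nat.exists_eq_two_pow_mul_odd (orderOf_pos c).ne'
  have hcM : c ∈ S.M := S.commute_mem_M hy hy1 (mem_cent.1 hc)
  have h1 : c ^ m ∈ S.H := S.mem_H_of_two (pow_mem hcM m) (k := k) (by
    rw [← pow_mul, mul_comm, ← hn, pow_orderOf_eq_one])
  have h2 : c ^ (2 ^ k) ∈ S.H := by
    refine S.mem_H.2 (CfsgLib.CNGroup.commute_of_mem_nilpotent (S.ti.isCN y hy1)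
      (pow_mem hc _) (mem_cent.2 (S.mem_H.1 hy).symm) ?_)
    rw [S.hz]
    refine Nat.coprime_two_right.2 ?_
    rw [orderOf_pow, hn, Nat.gcd_mul_right_left, Nat.mul_div_cancel_left _ (Nat.two_pow_pos k)]
    exact hm
  have hcop : Nat.Coprime m (2 ^ k) := (Nat.coprime_two_right.2 hm).pow_right k
  have hbez := Nat.gcd_eq_gcd_ab m (2 ^ k)
  rw [hcop.gcd_eq_one] at hbez
  have : c = (c ^ m) ^ Nat.gcdA m (2 ^ k) * (c ^ (2 ^ k)) ^ Nat.gcdB m (2 ^ k) := by
    rw [← zpow_natCast c m, ← zpow_natCast c (2 ^ k), ← zpow_mul, ← zpow_mul, ← zpow_add, ← hbez]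
    simp
  rw [this]
  exact mul_mem (zpow_mem h1 _) (zpow_mem h2 _)

theorem coprime : (Nat.card S.H).Coprime S.H.index :=
  CfsgLib.TIFN.coprime_index (fun g hg k hk hgk => by_contra fun h => hg (S.ti_H hk h hgk))
    fun _ hk hk1 => S.cent_le hk hk1

theorem mem_H_of_orderOf_dvd {s : G} (hs : s ∈ S.M) (h : orderOf s ∣ Nat.card S.H) :
    s ∈ S.H := by
  haveI : (S.H.subgroupOf S.M).Normal := normal_in_normalizer
  have h3 : orderOf (QuotientGroup.mk' (S.H.subgroupOf S.M) ⟨s, hs⟩) = 1 :=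
    Nat.eq_one_of_dvd_coprimes S.coprime
      (((orderOf_map_dvd _ _).trans (by rw [Subgroup.orderOf_mk])).trans h)
      ((_root_.orderOf_dvd_natCard _).trans (by
        rw [← index_eq_card]
        exact relIndex_dvd_index_of_le S.H_le_M))
  rw [orderOf_eq_one_iff, QuotientGroup.mk'_apply, QuotientGroup.eq_one_iff, mem_subgroupOf] at h3
  exact h3

/-- The number of involutions in `M`. -/
noncomputable def r : ℕ := Nat.card {t : G // orderOf t = 2 ∧ t ∈ S.M}

theorem one_lt_r : 1 < S.r := by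
  have hpos : 0 < S.r := by
    haveI : Nonempty {t : G // orderOf t = 2 ∧ t ∈ S.M} := ⟨⟨S.z, S.hz, S.H_le_M S.z_mem⟩⟩
    exact Nat.card_pos
  by_contra hle
  have hsub : Subsingleton {t : G // orderOf t = 2 ∧ t ∈ S.M} :=
    Finite.card_le_one_iff_subsingleton.1 (not_lt.1 hle)
  have hMH : S.M ≤ S.H := fun g hg => by
    have h := Subsingleton.elim
      (⟨g * S.z * g⁻¹, (CfsgLib.Involutions.orderOf_conj_eq g S.z).trans S.hz,
        S.H_le_M (S.conj_mem hg S.z_mem)⟩ : {t : G // orderOf t = 2 ∧ t ∈ S.M})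
      ⟨S.z, S.hz, S.H_le_M S.z_mem⟩
    exact S.mem_H.2 (mul_inv_eq_iff_eq_mul.1 (congrArg Subtype.val h))
  have hF : Cfsg.IsFrobeniusComplement S.H := by
    refine ⟨S.H_ne_bot, S.H_ne_top, fun g hg => ?_⟩
    rw [eq_bot_iff]
    rintro x ⟨hx, hx'⟩
    replace hx' : g⁻¹ * x * g ∈ S.H := CfsgLib.Frobenius.mem_conj_smul_iff.1 hx'
    rw [mem_bot]
    by_contra hx1
    refine hg (hMH (S.ti_H hx' (fun e => hx1 (by
      rw [show x = g * (g⁻¹ * x * g) * g⁻¹ by group, e, mul_one, mul_inv_cancel])) ?_))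
    simpa [mul_assoc] using hx
  obtain ⟨N, hN, hNn, hNnil⟩ := Cfsg.Agent.S0042.result S.H hF
  have h1 := S.no_nilpotent_normal hNnil
  have h2 := CfsgLib.Frobenius.ncard_frobeniusKernel hF
  rw [← hN, h1, coe_bot, Set.ncard_singleton] at h2
  exact absurd (CfsgLib.Frobenius.one_lt_index hF) (by omega)

/-- The two point stabiliser attached to an element `u`. -/
def D (u : G) : Subgroup G := S.M ⊓ S.M.map (MulAut.conj u).toMonoidHom

variable {u : G} (hu : orderOf u = 2) (huM : u ∉ S.M)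

omit [Finite G] in
include hu in
theorem u_sq : u * u = 1 := by
  have h := pow_orderOf_eq_one u
  rwa [hu, pow_two] at h

omit [Finite G] in
include hu in
theorem mem_D {d : G} : d ∈ S.D u ↔ d ∈ S.M ∧ u * d * u ∈ S.M := by
  have hinv : u⁻¹ = u := inv_eq_of_mul_eq_one_right (u_sq hu)
  rw [D, mem_inf, MulEquiv.toMonoidHom_eq_coe, mem_map]
  refine and_congr_right fun _ => ⟨?_, fun h => ⟨u * d * u, h, ?_⟩⟩
  · rintro ⟨x, hx, rfl⟩
    have : u * (u * x * u⁻¹) * u = x := by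
      rw [hinv, show u * (u * x * u) * u = (u * u) * x * (u * u) by group, u_sq hu, one_mul,
        mul_one]
    simpa [this] using hx
  · show u * (u * d * u) * u⁻¹ = d
    rw [hinv, show u * (u * d * u) * u = (u * u) * d * (u * u) by group, u_sq hu, one_mul,
      mul_one]

include hu huM in
theorem D_inf_H {d : G} (hd : d ∈ S.D u) (hdH : d ∈ S.H) : d = 1 := by
  by_contra hd1
  have h := (S.mem_D hu).1 hd
  have hinv : u⁻¹ = u := inv_eq_of_mul_eq_one_right (u_sq hu)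
  have h2 : u * d * u⁻¹ ∈ S.M := by rw [hinv]; exact h.2
  refine huM (S.ti_H hdH hd1 (S.mem_H_of_orderOf_dvd h2 ?_))
  rw [CfsgLib.Involutions.orderOf_conj_eq]
  exact Subgroup.orderOf_dvd_natCard S.H hdH

include hu huM in
theorem D_map_bijective :
    Function.Bijective (fun d : ↥(S.D u) =>
      (⟨(d : G) * S.z * (d : G)⁻¹, (CfsgLib.Involutions.orderOf_conj_eq (d : G) S.z).trans S.hz,
        S.H_le_M (S.conj_mem ((S.mem_D hu).1 d.2).1 S.z_mem)⟩ :
        {t : G // orderOf t = 2 ∧ t ∈ S.M})) := by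
  constructor
  · intro d e h
    have h' : (d : G) * S.z * (d : G)⁻¹ = (e : G) * S.z * (e : G)⁻¹ := congrArg Subtype.val h
    have hH : (e : G)⁻¹ * d ∈ S.H := S.mem_H.2 (by
      show (e : G)⁻¹ * d * S.z = S.z * ((e : G)⁻¹ * d)
      calc (e : G)⁻¹ * d * S.z = (e : G)⁻¹ * ((d : G) * S.z * (d : G)⁻¹) * d := by group
        _ = S.z * ((e : G)⁻¹ * d) := by rw [h']; group)
    exact Subtype.ext (inv_mul_eq_one.1 (S.D_inf_H hu huM (mul_mem (inv_mem e.2) d.2) hH)).symm
  · rintro ⟨t, ht2, htM⟩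
    obtain ⟨⟨d, hd, hdt⟩, -⟩ :=
      Cfsg.Agent.S1225.result S.M S.se u hu huM S.z t S.hz (S.H_le_M S.z_mem) ht2 htM
    exact ⟨⟨d, hd⟩, Subtype.ext hdt⟩

include hu huM in
theorem card_D : Nat.card ↥(S.D u) = S.r :=
  Nat.card_eq_of_bijective _ (S.D_map_bijective hu huM)

include hu huM in
/-- `u` inverts the two point stabiliser. -/
theorem inverted {d : G} (hd : d ∈ S.D u) : u * d * u = d⁻¹ := by
  have huu := u_sq hu
  have hinv : u⁻¹ = u := inv_eq_of_mul_eq_one_right huu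
  let I : Set G := {d | d ∈ S.D u ∧ u * d * u = d⁻¹}
  have hxy : ((1 : G) : G ⧸ S.M) ≠ ((u : G) : G ⧸ S.M) := fun h => huM (by
    rw [QuotientGroup.eq] at h; simpa using h)
  have hcard := Cfsg.Agent.S1224.result S.M S.se _ _ hxy
  have key : ∀ i : {i : G // orderOf i = 2 ∧ i • ((1 : G) : G ⧸ S.M) = (u : G ⧸ S.M)},
      u * (i : G) ∈ I := by
    rintro ⟨i, hi2, hix⟩
    have hii : i * i = 1 := by
      have h := pow_orderOf_eq_one i
      rwa [hi2, pow_two] at h
    rw [MulAction.Quotient.smul_mk, QuotientGroup.eq, smul_eq_mul, mul_one] at hix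
    have hm : u * i ∈ S.M := by
      have := inv_mem hix
      simpa [hinv] using this
    have he : u * (u * i) * u = (u * i)⁻¹ := by
      rw [mul_inv_rev, hinv, inv_eq_of_mul_eq_one_right hii, ← mul_assoc u u i, huu, one_mul]
    exact ⟨(S.mem_D hu).2 ⟨hm, he ▸ inv_mem hm⟩, he⟩
  have hle : S.r ≤ I.ncard := by
    rw [r, ← hcard, ← Nat.card_coe_set_eq]
    refine Nat.card_le_card_of_injective (fun i => (⟨u * (i : G), key i⟩ : I)) fun a b h => ?_
    exact Subtype.ext (mul_left_cancel (congrArg Subtype.val h))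
  have hI : I = (S.D u : Set G) := by
    refine Set.eq_of_subset_of_ncard_le (fun x hx => hx.1) ?_ (Set.toFinite _)
    rw [← Nat.card_coe_set_eq, SetLike.coe_sort_coe, S.card_D hu huM]
    exact hle
  have : d ∈ I := hI ▸ hd
  exact this.2

include hu huM in
theorem D_comm {a b : G} (ha : a ∈ S.D u) (hb : b ∈ S.D u) : a * b = b * a := by
  have h := S.inverted hu huM (mul_mem ha hb)
  have huu := u_sq hu
  have h2 : u * (a * b) * u = a⁻¹ * b⁻¹ := by
    rw [← S.inverted hu huM ha, ← S.inverted hu huM hb,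
      show u * a * u * (u * b * u) = u * a * (u * u) * b * u by group, huu, mul_one]
    group
  rw [h, mul_inv_rev] at h2
  calc a * b = (b⁻¹ * a⁻¹)⁻¹ := by group
    _ = b * a := by rw [h2]; group

include hu huM in
theorem exists_mul {m : G} (hm : m ∈ S.M) : ∃ d ∈ S.D u, d⁻¹ * m ∈ S.H := by
  obtain ⟨d, hd⟩ := (S.D_map_bijective hu huM).2
    ⟨m * S.z * m⁻¹, (CfsgLib.Involutions.orderOf_conj_eq m S.z).trans S.hz,
      S.H_le_M (S.conj_mem hm S.z_mem)⟩
  have h' : (d : G) * S.z * (d : G)⁻¹ = m * S.z * m⁻¹ := congrArg Subtype.val hd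
  refine ⟨d, d.2, S.mem_H.2 ?_⟩
  show (d : G)⁻¹ * m * S.z = S.z * ((d : G)⁻¹ * m)
  calc (d : G)⁻¹ * m * S.z = (d : G)⁻¹ * (m * S.z * m⁻¹) * m := by group
    _ = S.z * ((d : G)⁻¹ * m) := by rw [← h']; group

include hu huM in
theorem odd_D : Odd (Nat.card ↥(S.D u)) := by
  by_contra h
  rw [Nat.not_odd_iff_even] at h
  obtain ⟨s, hs, hs2⟩ := CfsgLib.Involutions.exists_involution_of_even_card _ h
  have := S.D_inf_H hu huM hs (S.involution_mem ((S.mem_D hu).1 hs).1 hs2)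
  rw [this, orderOf_one] at hs2
  omega

include hu huM in
theorem card_M : Nat.card ↥S.M = Nat.card ↥S.H * S.r := by
  rw [← S.card_D hu huM, ← Nat.card_prod]
  refine (Nat.card_eq_of_bijective (fun p : ↥S.H × ↥(S.D u) =>
    (⟨(p.2 : G) * (p.1 : G), mul_mem ((S.mem_D hu).1 p.2.2).1 (S.H_le_M p.1.2)⟩ : ↥S.M))
    ⟨?_, ?_⟩).symm
  · rintro ⟨h, d⟩ ⟨h', d'⟩ e
    have e' : (d : G) * h = (d' : G) * h' := congrArg Subtype.val e
    have h1 : (d' : G)⁻¹ * d = (h' : G) * (h : G)⁻¹ := by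
      calc (d' : G)⁻¹ * d = (d' : G)⁻¹ * ((d : G) * h) * (h : G)⁻¹ := by group
        _ = _ := by rw [e']; group
    have h2 := S.D_inf_H hu huM (mul_mem (inv_mem d'.2) d.2)
      (h1 ▸ mul_mem h'.2 (inv_mem h.2))
    rw [h2] at h1
    exact Prod.ext (Subtype.ext (mul_inv_eq_one.1 h1.symm).symm)
      (Subtype.ext (inv_mul_eq_one.1 h2).symm)
  · rintro ⟨m, hm⟩
    obtain ⟨d, hd, hdm⟩ := S.exists_mul hu huM hm
    exact ⟨(⟨_, hdm⟩, ⟨d, hd⟩), Subtype.ext (mul_inv_cancel_left d m)⟩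

end Setup

end CfsgLib.TICent79
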