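import Cfsg.Agent.Lib.TICent79.Count
import Cfsg.Agent.S0338
import Cfsg.Agent.S0346
import Cfsg.Agent.S1147
import Cfsg.Agent.S1230
import Cfsg.Agent.Lib.PermSmall.OddRecognition
import Cfsg.Agent.Lib.CNGroup.Solvable

/-!
# The non-solvable groups with trivial intersection element centralisers
-/

set_option autoImplicit false
set_option linter.style.haveILetI false
set_option linter.unusedSimpArgs false

namespace CfsgLib.TICent79

open Subgroup

universe u

namespace Setup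

variable {G : Type u} [Group G] (S : Setup G) [Finite G]

/-- The elements of order at most two of `H`. -/
def Z0 : Subgroup G where
  carrier := {y | y ∈ S.H ∧ y * y = 1}
  one_mem' := ⟨one_mem _, one_mul 1⟩
  mul_mem' := by
    intro a b ha hb
    refine ⟨mul_mem ha.1 hb.1, ?_⟩
    by_cases ha1 : a = 1
    · simpa [ha1] using hb.2
    have hab : Commute b a := S.commute_involution (S.H_le_M ha.1)
      (CfsgLib.Involutions.orderOf_eq_two_iff_mul.2 ⟨ha1, ha.2⟩) hb.1
    rw [show a * b * (a * b) = a * (b * a) * b by group, hab.eq,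
      show a * (a * b) * b = (a * a) * (b * b) by group, ha.2, hb.2, one_mul]
  inv_mem' := by
    intro a ha
    refine ⟨inv_mem ha.1, ?_⟩
    rw [← mul_inv_rev, ha.2, inv_one]

theorem mem_Z0 {y : G} : y ∈ S.Z0 ↔ y ∈ S.H ∧ y * y = 1 := Iff.rfl

theorem Z0_commute {w y : G} (hw : w ∈ S.Z0) (hy : y ∈ S.H) : Commute y w := by
  by_cases hw1 : w = 1
  · rw [hw1]; exact Commute.one_right y
  · exact S.commute_involution (S.H_le_M hw.1)
      (CfsgLib.Involutions.orderOf_eq_two_iff_mul.2 ⟨hw1, hw.2⟩) hy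

theorem card_Z0 : Nat.card ↥S.Z0 = S.r + 1 := by
  have h1 : (S.Z0 : Set G) = insert 1 {t | orderOf t = 2 ∧ t ∈ S.M} := by
    ext y
    rw [SetLike.mem_coe, mem_Z0, Set.mem_insert_iff, Set.mem_setOf_eq,
      CfsgLib.Involutions.orderOf_eq_two_iff_mul]
    constructor
    · exact fun h => (em (y = 1)).imp id fun hy => ⟨⟨hy, h.2⟩, S.H_le_M h.1⟩
    · rintro (rfl | ⟨h2, hM⟩)
      · exact ⟨one_mem _, one_mul 1⟩
      · exact ⟨S.involution_mem hM (CfsgLib.Involutions.orderOf_eq_two_iff_mul.2 h2), h2.2⟩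
  rw [← SetLike.coe_sort_coe, Nat.card_coe_set_eq, h1,
    Set.ncard_insert_of_notMem (fun h => by
      have := h.1; rw [orderOf_one] at this; omega) (Set.toFinite _), ← Nat.card_coe_set_eq]
  rfl

variable {u : G} (hu : orderOf u = 2) (huM : u ∉ S.M)

include hu huM in
theorem zassenhaus : Cfsg.IsZassenhausGroup G (G ⧸ S.M) ∧
    Odd (Nat.card (G ⧸ S.M)) := by
  obtain ⟨hcard, hreg⟩ := S.regular hu huM
  have huu := u_sq hu
  have hinv : u⁻¹ = u := inv_eq_of_mul_eq_one_right huu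
  have hua : (u : G ⧸ S.M) ≠ ((1 : G) : G ⧸ S.M) := fun h => huM (by
    rw [QuotientGroup.eq] at h; simpa using inv_mem h)
  have hfixa : ∀ {g : G}, g • ((1 : G) : G ⧸ S.M) = ((1 : G) : G ⧸ S.M) ↔ g ∈ S.M := by
    intro g
    rw [CfsgLib.Involutions.smul_coset_eq_iff]
    simp
  have hpair : ∀ {g : G}, (g • ((1 : G) : G ⧸ S.M) = ((1 : G) : G ⧸ S.M) ∧
      g • (u : G ⧸ S.M) = (u : G ⧸ S.M)) ↔ g ∈ S.D u := by
    intro g
    rw [hfixa, CfsgLib.Involutions.smul_coset_eq_iff, S.mem_D hu, hinv]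
  have h2trans : MulAction.IsMultiplyPretransitive G (G ⧸ S.M) 2 := by
    rw [MulAction.is_two_pretransitive_iff]
    have base : ∀ a b : G ⧸ S.M, a ≠ b →
        ∃ g : G, g • ((1 : G) : G ⧸ S.M) = a ∧ g • (u : G ⧸ S.M) = b := by
      intro a b hab
      obtain ⟨g, rfl⟩ := QuotientGroup.mk_surjective a
      have hb : g⁻¹ • b ≠ ((1 : G) : G ⧸ S.M) := fun h => hab (by
        rw [show b = g • ((1 : G) : G ⧸ S.M) from inv_smul_eq_iff.1 h, MulAction.Quotient.smul_mk,
          smul_eq_mul, mul_one])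
      obtain ⟨k, hk, -⟩ := hreg _ _ hua hb
      refine ⟨g * k, ?_, ?_⟩
      · rw [mul_smul, hfixa.2 (S.H_le_M k.2), MulAction.Quotient.smul_mk, smul_eq_mul, mul_one]
      · rw [mul_smul, hk, smul_inv_smul]
    intro a b c d hab hcd
    obtain ⟨g, hg1, hg2⟩ := base a b hab
    obtain ⟨g', hg1', hg2'⟩ := base c d hcd
    refine ⟨g' * g⁻¹, ?_, ?_⟩
    · rw [mul_smul, ← hg1, inv_smul_smul, hg1']
    · rw [mul_smul, ← hg2, inv_smul_smul, hg2']
  haveI : MulAction.IsPretransitive G (G ⧸ S.M) := inferInstance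
  -- three points
  have h3 : ∀ g : G, ∀ c : G ⧸ S.M, c ≠ ((1 : G) : G ⧸ S.M) → c ≠ (u : G ⧸ S.M) →
      g ∈ S.D u → g • c = c → g = 1 := by
    intro g c hc hcu hg hgc
    obtain ⟨k, hk, -⟩ := hreg _ _ hua hc
    have hk1 : (k : G) ≠ 1 := fun e => hcu (by rw [← hk, e, one_smul])
    have hgM := ((S.mem_D hu).1 hg).1
    have hg' : (k : G)⁻¹ * g * k ∈ S.D u := hpair.1
      ⟨hfixa.2 (mul_mem (mul_mem (inv_mem (S.H_le_M k.2)) hgM) (S.H_le_M k.2)), by
        rw [mul_smul, mul_smul, hk, hgc, ← hk, inv_smul_smul]⟩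
    have hH : g⁻¹ * ((k : G)⁻¹ * g * k) ∈ S.H := by
      have := S.conj_mem (inv_mem hgM) (inv_mem k.2)
      simpa [mul_assoc] using mul_mem this k.2
    have h1 := S.D_inf_H hu huM (mul_mem (inv_mem hg) hg') hH
    have hcomm : Commute g (k : G) := by
      have h2 : (k : G)⁻¹ * g * k = g := (inv_mul_eq_one.1 h1).symm
      show g * k = k * g
      conv_rhs => rw [← h2]
      group
    exact S.D_inf_H hu huM hg (S.cent_le k.2 hk1 (mem_cent.2 hcomm))
  refine ⟨⟨?_, h2trans, ?_, ?_, ?_⟩, ?_⟩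
  · refine ⟨fun {g g'} hgg => ?_⟩
    have h1 : ∀ c : G ⧸ S.M, (g'⁻¹ * g) • c = c := fun c => by
      rw [mul_smul, hgg c, inv_smul_smul]
    refine (inv_mul_eq_one.1 ?_).symm
    have hD : g'⁻¹ * g ∈ S.D u := hpair.1 ⟨h1 _, h1 _⟩
    obtain ⟨k, hk1⟩ : ∃ k : ↥S.H, (k : G) ≠ 1 := ⟨⟨S.z, S.z_mem⟩, S.z_ne⟩
    refine h3 _ ((k : G) • (u : G ⧸ S.M)) (fun e => ?_) (fun e => hk1 ?_) hD (h1 _)
    · refine hua ?_
      have hka : (k : G)⁻¹ • ((1 : G) : G ⧸ S.M) = ((1 : G) : G ⧸ S.M) :=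
        hfixa.2 (inv_mem (S.H_le_M k.2))
      rw [← hka, ← e, inv_smul_smul]
    · obtain ⟨k', -, hu'⟩ := hreg _ _ hua hua
      exact congrArg Subtype.val ((hu' k e).trans (hu' 1 (one_smul _ _)).symm)
  · intro g a b c hab hbc hac ha hb hc
    obtain ⟨σ, hσ1, hσ2⟩ := MulAction.is_two_pretransitive_iff.1 h2trans (Ne.symm hua) hab
    have key : σ⁻¹ * g * σ = 1 := by
      refine h3 _ (σ⁻¹ • c) ?_ ?_ (hpair.1 ⟨?_, ?_⟩) ?_
      · intro h; exact hac (by rw [← hσ1, ← h, smul_inv_smul])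
      · intro h; exact hbc (by rw [← hσ2, ← h, smul_inv_smul])
      · rw [mul_smul, mul_smul, hσ1, ha, ← hσ1, inv_smul_smul]
      · rw [mul_smul, mul_smul, hσ2, hb, ← hσ2, inv_smul_smul]
      · rw [mul_smul, mul_smul, smul_inv_smul, hc]
    calc g = σ * (σ⁻¹ * g * σ) * σ⁻¹ := by group
      _ = 1 := by rw [key]; group
  · haveI : Nontrivial ↥(S.D u) := Finite.one_lt_card_iff_nontrivial.1
      (by rw [S.card_D hu huM]; exact S.one_lt_r)
    obtain ⟨d, hd⟩ := exists_ne (1 : ↥(S.D u))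
    exact ⟨d, fun e => hd (Subtype.ext e), _, _, Ne.symm hua, (hpair.2 d.2).1, (hpair.2 d.2).2⟩
  · intro N hN htr
    by_contra hall
    simp only [not_exists, not_not] at hall
    have hNM : ∀ n ∈ N, n ∈ S.M → n = 1 := fun n hn hnM => by
      have h := hall ((1 : G) : G ⧸ S.M)
      exact congrArg Subtype.val
        (mem_bot.1 ((SetLike.ext_iff.1 h (⟨n, hn⟩ : ↥N)).1 (hfixa.2 hnM)))
    -- the involution inverts the regular normal subgroup
    let f : ↥N → ↥N := fun n => ⟨(n : G)⁻¹ * (S.z * n * S.z⁻¹),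
      mul_mem (inv_mem n.2) (hN.conj_mem _ n.2 S.z)⟩
    have hf : Function.Injective f := by
      intro a b h
      have h' : (a : G)⁻¹ * (S.z * a * S.z⁻¹) = (b : G)⁻¹ * (S.z * b * S.z⁻¹) :=
        congrArg Subtype.val h
      have h1 : ((b : G) * (a : G)⁻¹) * S.z = S.z * ((b : G) * (a : G)⁻¹) := by
        calc (b : G) * (a : G)⁻¹ * S.z
            = b * ((a : G)⁻¹ * (S.z * a * S.z⁻¹)) * S.z * (a : G)⁻¹ := by group
          _ = _ := by rw [h']; group
      have := hNM _ (mul_mem b.2 (inv_mem a.2)) (S.H_le_M (S.mem_H.2 h1))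
      exact Subtype.ext (mul_inv_eq_one.1 this).symm
    have hinvN : ∀ n ∈ N, S.z * n * S.z⁻¹ = n⁻¹ := by
      intro n hn
      obtain ⟨⟨a, ha⟩, he⟩ := (Finite.injective_iff_surjective.1 hf) ⟨n, hn⟩
      have he' : a⁻¹ * (S.z * a * S.z⁻¹) = n := congrArg Subtype.val he
      have hzz := u_sq S.hz
      rw [← he', inv_eq_of_mul_eq_one_right hzz]
      rw [show S.z * (a⁻¹ * (S.z * a * S.z)) * S.z =
        (S.z * a⁻¹ * S.z) * a * (S.z * S.z) by group, hzz, mul_one]
      rw [mul_inv_rev, inv_inv, mul_inv_rev, mul_inv_rev, inv_eq_of_mul_eq_one_right hzz]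
      group
    have hNcomm : ∀ a ∈ N, ∀ b ∈ N, a * b = b * a := by
      intro a ha b hb
      have h := hinvN _ (mul_mem ha hb)
      rw [show S.z * (a * b) * S.z⁻¹ = (S.z * a * S.z⁻¹) * (S.z * b * S.z⁻¹) by group,
        hinvN a ha, hinvN b hb, mul_inv_rev] at h
      calc a * b = (b⁻¹ * a⁻¹)⁻¹ := by group
        _ = b * a := by rw [← h]; group
    haveI := hN
    haveI : IsMulCommutative ↥N := ⟨⟨fun a b => Subtype.ext (hNcomm a a.2 b b.2)⟩⟩
    letI : CommGroup ↥N :=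
      { (inferInstance : Group ↥N) with mul_comm := fun a b => Subtype.ext (hNcomm a a.2 b b.2) }
    have hbot : N = ⊥ := S.no_nilpotent_normal (inferInstance : Group.IsNilpotent ↥N)
    obtain ⟨n, hn⟩ := htr.exists_smul_eq ((1 : G) : G ⧸ S.M) (u : G ⧸ S.M)
    have : (n : G) = 1 := mem_bot.1 (hbot ▸ n.2)
    change (n : G) • ((1 : G) : G ⧸ S.M) = (u : G ⧸ S.M) at hn
    rw [this, one_smul] at hn
    exact hua hn.symm
  · rw [← index_eq_card, hcard]
    have h2 : 2 ∣ Nat.card ↥S.H := S.hz ▸ Subgroup.orderOf_dvd_natCard S.H S.z_mem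
    exact ⟨Nat.card ↥S.H / 2, by omega⟩

include hu huM in
/-- `H` is elementary abelian. -/
theorem H_le_Z0 : S.H ≤ S.Z0 := by
  classical
  haveI : Fintype (G ⧸ S.M) := Fintype.ofFinite _
  obtain ⟨hZ, hodd⟩ := S.zassenhaus hu huM
  obtain ⟨hcard, hreg⟩ := S.regular hu huM
  rw [Nat.card_eq_fintype_card] at hodd
  haveI : IsSimpleGroup G := Cfsg.Agent.S0338.result hZ hodd
  set a : G ⧸ S.M := ((1 : G) : G ⧸ S.M) with ha
  have hab : a ≠ (u : G ⧸ S.M) := fun h => huM (by
    rw [ha, QuotientGroup.eq] at h; simpa using h)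
  have hfixa : MulAction.stabilizer G a = S.M := by
    ext g
    rw [MulAction.mem_stabilizer_iff, ha, CfsgLib.Involutions.smul_coset_eq_iff]
    simp
  have hpair : MulAction.stabilizer G a ⊓ MulAction.stabilizer G (u : G ⧸ S.M) = S.D u := by
    ext g
    rw [hfixa, mem_inf, MulAction.mem_stabilizer_iff, CfsgLib.Involutions.smul_coset_eq_iff,
      S.mem_D hu, inv_eq_of_mul_eq_one_right (u_sq hu)]
  have hΩ : Fintype.card (G ⧸ S.M) = Nat.card ↥S.H + 1 := by
    rw [← hcard, index_eq_card, Nat.card_eq_fintype_card]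
  have hle : S.H ≤ MulAction.stabilizer G a := by rw [hfixa]; exact S.H_le_M
  have h2 : 2 ∣ Nat.card ↥S.H := S.hz ▸ Subgroup.orderOf_dvd_natCard S.H S.z_mem
  have hn : ∀ g ∈ MulAction.stabilizer G a, ∀ y ∈ S.H, g * y * g⁻¹ ∈ S.H :=
    fun g hg y hy => S.conj_mem (by rw [hfixa] at hg; exact hg) hy
  by_cases hc : ∀ x ∈ S.H, ∀ y ∈ S.H, x * y = y * x
  · have hHr : Nat.card ↥S.H = S.r + 1 := by
      have hn' : (S.H.subgroupOf (MulAction.stabilizer G a)).Normal :=
        ⟨fun y hy g => hn g g.2 y hy⟩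
      rcases CfsgLib.PermSmall.OddRecognition.card_and_recognition hZ hab S.H hle hn'
        ⟨⟨fun x y => Subtype.ext (hc x x.2 y y.2)⟩⟩ hreg with h | ⟨-, K, iF, iF', hK2, hKc, -⟩
      · rw [CfsgLib.PermSmall.Zassenhaus.pairStab, hpair, S.card_D hu huM, hΩ] at h
        have : 0 < Nat.card ↥S.H := Nat.card_pos
        omega
      · exfalso
        apply hK2
        obtain ⟨p, hp⟩ := CharP.exists K
        haveI := hp
        obtain ⟨j, hpp, hj⟩ := FiniteField.card K p
        rw [ringChar.eq K p]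
        rw [hΩ, Nat.add_sub_cancel] at hKc
        have hd : 2 ∣ p ^ (j : ℕ) := hj ▸ hKc.symm ▸ h2
        exact ((Nat.prime_dvd_prime_iff_eq Nat.prime_two hpp).1
          (Nat.prime_two.dvd_of_dvd_pow hd)).symm
    have := S.card_Z0
    intro y hy
    have heq : S.Z0 = S.H := Subgroup.eq_of_le_of_card_ge (fun x hx => hx.1) (by omega)
    exact heq ▸ hy
  · exfalso
    push Not at hc
    obtain ⟨x₀, hx₀, y₀, hy₀, hne⟩ := hc
    obtain ⟨p, k, hp, hk, hpk⟩ : IsPrimePow (Nat.card ↥S.H) := by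
      have := Cfsg.Agent.S0346.result hZ
      rwa [hΩ, Nat.add_sub_cancel] at this
    have hp' : p.Prime := hp.nat_prime
    have hp2 : p = 2 := ((Nat.prime_dvd_prime_iff_eq Nat.prime_two hp').1
      (Nat.prime_two.dvd_of_dvd_pow (hpk ▸ h2))).symm
    subst hp2
    have hH2 : IsPGroup 2 ↥S.H := IsPGroup.of_card hpk.symm
    obtain ⟨n, -, -, hΩn, -, hDn, -⟩ := Cfsg.Agent.S1147.result hZ hab S.H hle hn hreg hH2
      ⟨x₀, hx₀, y₀, hy₀, hne⟩
    rw [hpair, S.card_D hu huM] at hDn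
    rw [Nat.card_eq_fintype_card, hΩ] at hΩn
    have hHsq : Nat.card ↥S.H = (S.r + 1) * (S.r + 1) := by
      have h1 : S.r + 1 = 2 ^ n := by
        have := Nat.one_le_two_pow (n := n)
        omega
      rw [h1, ← pow_add, ← two_mul]
      omega
    refine hne (?_ : x₀ * y₀ = y₀ * x₀)
    by_cases hx0 : x₀ ∈ S.Z0
    · exact (S.Z0_commute hx0 hy₀).symm
    -- every element outside `Z0` is a translate of a conjugate of `x₀`
    let f : ↥(S.D u) × ↥S.Z0 → {y : G // y ∈ S.H ∧ y ∉ S.Z0} := fun q =>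
      ⟨(q.1 : G) * x₀ * (q.1 : G)⁻¹ * q.2,
        mul_mem (S.conj_mem ((S.mem_D hu).1 q.1.2).1 hx₀) q.2.2.1, by
          intro h
          have h1 : (q.1 : G) * x₀ * (q.1 : G)⁻¹ ∈ S.Z0 := by
            simpa [mul_assoc] using mul_mem h (inv_mem q.2.2)
          refine hx0 ⟨hx₀, ?_⟩
          have h2 := h1.2
          rwa [show (q.1 : G) * x₀ * (q.1 : G)⁻¹ * ((q.1 : G) * x₀ * (q.1 : G)⁻¹) =
            (q.1 : G) * (x₀ * x₀) * (q.1 : G)⁻¹ by group, conj_eq_one_iff] at h2⟩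
    have hf : Function.Injective f := by
      rintro ⟨d, w⟩ ⟨d', w'⟩ h
      have h' : (d : G) * x₀ * (d : G)⁻¹ * w = (d' : G) * x₀ * (d' : G)⁻¹ * w' :=
        congrArg Subtype.val h
      set e : G := (d' : G)⁻¹ * d with he
      have heD : e ∈ S.D u := mul_mem (inv_mem d'.2) d.2
      have heM := ((S.mem_D hu).1 heD).1
      have hd'M := ((S.mem_D hu).1 d'.2).1
      have hconjZ : ∀ g ∈ S.M, ∀ t ∈ S.Z0, g * t * g⁻¹ ∈ S.Z0 := fun g hg t ht =>
        ⟨S.conj_mem hg ht.1, by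
          rw [show g * t * g⁻¹ * (g * t * g⁻¹) = g * (t * t) * g⁻¹ by group, ht.2, mul_one,
            mul_inv_cancel]⟩
      set v : G := (d' : G)⁻¹ * ((w' : G) * (w : G)⁻¹) * d' with hv
      have hvZ : v ∈ S.Z0 := by
        have := hconjZ _ (inv_mem hd'M) _ (mul_mem w'.2 (inv_mem w.2))
        simpa [hv] using this
      have hev : e * x₀ * e⁻¹ = x₀ * v := by
        calc e * x₀ * e⁻¹ = (d' : G)⁻¹ * ((d : G) * x₀ * (d : G)⁻¹ * w) * (w : G)⁻¹ * d' := by
              rw [he]; group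
          _ = x₀ * v := by rw [h', hv]; group
      have he1 : e = 1 := by
        by_contra hne1
        let ψ : ↥S.Z0 → ↥S.Z0 := fun t =>
          ⟨(e * (t : G) * e⁻¹) * (t : G)⁻¹, mul_mem (hconjZ e heM t t.2) (inv_mem t.2)⟩
        have hψ : Function.Injective ψ := by
          intro s t hst
          have hst' : (e * (s : G) * e⁻¹) * (s : G)⁻¹ = (e * (t : G) * e⁻¹) * (t : G)⁻¹ :=
            congrArg Subtype.val hst
          by_contra hne2
          have hcomm : Commute e ((t : G)⁻¹ * s) := by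
            have hts : Commute (t : G)⁻¹ (s : G) :=
              (S.Z0_commute t.2 s.2.1).symm.inv_left
            have h2 : e * ((t : G)⁻¹ * s) * e⁻¹ = (t : G)⁻¹ * s := by
              calc e * ((t : G)⁻¹ * s) * e⁻¹
                  = (e * (t : G) * e⁻¹)⁻¹ * ((e * (s : G) * e⁻¹) * (s : G)⁻¹) * s := by group
                _ = (t : G)⁻¹ * s := by rw [hst']; group
            exact mul_inv_eq_iff_eq_mul.1 h2
          refine hne1 (S.D_inf_H hu huM heD (S.cent_le (mul_mem (inv_mem t.2.1) s.2.1)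
            (fun e1 => hne2 (Subtype.ext (inv_mul_eq_one.1 e1).symm)) (mem_cent.2 hcomm)))
        obtain ⟨t, ht⟩ := (Finite.injective_iff_surjective.1 hψ) ⟨v⁻¹, inv_mem hvZ⟩
        have ht' : (e * (t : G) * e⁻¹) * (t : G)⁻¹ = v⁻¹ := congrArg Subtype.val ht
        have ht'' : e * (t : G) * e⁻¹ = v⁻¹ * t := by rw [← ht']; group
        have hfix : e * (x₀ * t) * e⁻¹ = x₀ * t := by
          calc e * (x₀ * (t : G)) * e⁻¹ = (e * x₀ * e⁻¹) * (e * (t : G) * e⁻¹) := by group
            _ = x₀ * t := by rw [hev, ht'']; group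
        refine hne1 (S.D_inf_H hu huM heD (S.cent_le (mul_mem hx₀ t.2.1) (fun e1 => hx0 ?_)
          (mem_cent.2 (mul_inv_eq_iff_eq_mul.1 hfix))))
        rw [eq_inv_of_mul_eq_one_left e1]
        exact inv_mem t.2
      have hdd : d = d' := Subtype.ext (inv_mul_eq_one.1 he1).symm
      subst hdd
      exact Prod.ext rfl (Subtype.ext (mul_left_cancel h'))
    have hcardT : Nat.card {y : G // y ∈ S.H ∧ y ∉ S.Z0} =
        Nat.card ↥S.H - Nat.card ↥S.Z0 := by
      have hset : {y : G | y ∈ S.H ∧ y ∉ S.Z0} = (S.H : Set G) \ (S.Z0 : Set G) := rfl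
      show Nat.card ↥{y : G | y ∈ S.H ∧ y ∉ S.Z0} = _
      rw [Nat.card_coe_set_eq, hset,
        Set.ncard_sdiff (fun x (hx : x ∈ S.Z0) => hx.1) (Set.toFinite _),
        ← Nat.card_coe_set_eq, ← Nat.card_coe_set_eq]
      rfl
    have hb : Function.Bijective f := by
      refine hf.bijective_of_nat_card_le ?_
      rw [hcardT, Nat.card_prod, S.card_D hu huM, S.card_Z0, hHsq, Nat.succ_mul]
      omega
    by_cases hy0 : y₀ ∈ S.Z0
    · exact S.Z0_commute hy0 hx₀
    obtain ⟨⟨d, w⟩, hdw⟩ := hb.2 ⟨y₀, hy₀, hy0⟩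
    have hy : (d : G) * x₀ * (d : G)⁻¹ * w = y₀ := congrArg Subtype.val hdw
    rw [← hy]
    exact ((S.commute_conj ((S.mem_D hu).1 d.2).1 hx₀).mul_right (S.Z0_commute w.2 hx₀)).eq

include hu huM in
theorem exists_psl : ∃ (F : Type) (_ : Field F) (_ : Fintype F) (n : ℕ), 2 ≤ n ∧
    Fintype.card F = 2 ^ n ∧
    Nonempty (G ≃* Matrix.ProjectiveSpecialLinearGroup (Fin 2) F) := by
  have hle := S.H_le_Z0 hu huM
  have hH2 : IsPGroup 2 ↥S.H := fun y => ⟨1, Subtype.ext (by
    simpa [pow_two] using (hle y.2).2)⟩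
  have hT : (S.P : Subgroup G) = S.H := (S.P.3 hH2 S.hP).symm
  have heq : S.Z0 = S.H := le_antisymm (fun x hx => hx.1) hle
  have hcard : Nat.card ↥S.H = S.r + 1 := by rw [← heq, S.card_Z0]
  have hr := S.one_lt_r
  have hnc : ¬ IsCyclic ↥(S.P : Subgroup G) := by
    rw [hT]
    intro h
    have h1 : Monoid.exponent ↥S.H = Nat.card ↥S.H := IsCyclic.exponent_eq_card
    have h2 : Monoid.exponent ↥S.H ∣ 2 := Monoid.exponent_dvd_of_forall_pow_eq_one fun y =>
      Subtype.ext (by simpa [pow_two] using (hle y.2).2)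
    have := Nat.le_of_dvd (by norm_num) h2
    omega
  have hnn : ¬ (S.P : Subgroup G).Normal := by
    rw [hT]
    intro h
    exact S.H_ne_bot (S.no_nilpotent_normal S.nilp)
  have hC : ∀ t : G, orderOf t = 2 → IsMulCommutative (centralizer ({t} : Set G)) ∧
      ∀ c ∈ centralizer ({t} : Set G), c ^ 2 = 1 := by
    intro t ht
    obtain ⟨g, hg⟩ := isConj_iff.1 (CfsgLib.StrongEmbedding.isConj_involutions S.se S.hz ht)
    subst hg
    have hmem : ∀ c ∈ centralizer ({g * S.z * g⁻¹} : Set G), g⁻¹ * c * g ∈ S.Z0 := by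
      intro c hc
      refine hle (S.mem_H.2 ?_)
      rw [← commute_conj_iff g]
      simpa [mul_assoc] using mem_cent.1 hc
    refine ⟨⟨⟨fun a b => Subtype.ext ?_⟩⟩, fun c hc => ?_⟩
    · have h := (commute_conj_iff g _ _).2
        (S.Z0_commute (hmem b b.2) (hmem a a.2).1)
      simpa [mul_assoc] using h.eq
    · have h := (hmem c hc).2
      rw [show g⁻¹ * c * g * (g⁻¹ * c * g) = g⁻¹ * (c * c) * g by group] at h
      rw [pow_two]
      calc c * c = g * (g⁻¹ * (c * c) * g) * g⁻¹ := by group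
        _ = 1 := by rw [h]; group
  obtain ⟨F, iF, iF', hF, hiso⟩ := Cfsg.Agent.S1230.result S.P hnc hnn hC
  obtain ⟨n, hn⟩ := S.P.isPGroup'.exists_card_eq
  refine ⟨F, iF, iF', n, ?_, hF.trans hn, hiso⟩
  rw [hT, hcard] at hn
  by_contra hlt
  have := Nat.pow_le_pow_right (show 2 > 0 by norm_num) (show n ≤ 1 by omega)
  omega

end Setup

/-- A non-nilpotent group with trivial intersection element centralisers and no non-trivial normal
Sylow subgroup is `PSL(2, 2^n)`. -/
theorem exists_psl_of_no_normal_sylow {G : Type u} [Group G] [Finite G] (h : TICent G)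
    (hnn : ¬ Group.IsNilpotent G)
    (hno : ∀ (q : ℕ) [Fact q.Prime] (Q : Sylow q G), (Q : Subgroup G).Normal →
      (Q : Subgroup G) = ⊥) :
    ∃ (F : Type) (_ : Field F) (_ : Fintype F) (n : ℕ), 2 ≤ n ∧ Fintype.card F = 2 ^ n ∧
      Nonempty (G ≃* Matrix.ProjectiveSpecialLinearGroup (Fin 2) F) := by
  have hA : ∀ w : G, (∀ g : G, Commute w (g * w * g⁻¹)) → w = 1 := by
    intro w hw
    by_contra hw1
    obtain ⟨p, hp, P, hPn, hPb⟩ := h.exists_normal_sylow hw1 hw
    exact hPb (hno p P hPn)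
  haveI : Fact (Nat.Prime 2) := ⟨Nat.prime_two⟩
  have hev : Even (Nat.card G) := by
    refine (Nat.even_or_odd _).resolve_right fun hodd => hnn ?_
    have hsolv : Group.IsSolvable G := CfsgLib.CNGroup.cn_solvable_aux _ G rfl hodd h.isCN
    -- the last non-trivial term of the derived series is abelian and normal
    obtain ⟨m, hm⟩ := (Group.isSolvable_def G).1 hsolv
    have key : ∀ k, derivedSeries G k = ⊥ → (⊤ : Subgroup G) = ⊥ := by
      intro k
      induction k with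
      | zero => exact fun e => e
      | succ k ih =>
        intro e
        refine ih ((eq_bot_iff_forall _).2 fun w hw => hA w fun g => ?_)
        rw [derivedSeries_succ, eq_bot_iff, commutator_le] at e
        have h1 := e w hw _ ((derivedSeries_normal G k).conj_mem w hw g)
        rw [mem_bot, commutatorElement_eq_one_iff_mul_comm] at h1
        exact h1
    haveI : Subsingleton G := ⟨fun a b => by
      have h1 : ∀ c : G, c = 1 := fun c => mem_bot.1 ((key m hm) ▸ mem_top c)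
      rw [h1 a, h1 b]⟩
    letI : CommGroup G :=
      { (inferInstance : Group G) with mul_comm := fun a b => Subsingleton.elim _ _ }
    infer_instance
  obtain ⟨P⟩ : Nonempty (Sylow 2 G) := inferInstance
  haveI : Nontrivial (P : Subgroup G) :=
    (nontrivial_iff_ne_bot _).2 (P.ne_bot_of_dvd_card hev.two_dvd)
  haveI := P.isPGroup'.center_nontrivial
  have hev' : 2 ∣ Nat.card ↥(Subgroup.center (P : Subgroup G)) := by
    obtain ⟨k, hk⟩ := IsPGroup.iff_card.1 (P.isPGroup'.to_subgroup (Subgroup.center ↥(P : Subgroup G)))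
    rw [hk]
    refine dvd_pow_self 2 fun e => ?_
    rw [e, pow_zero] at hk
    have := Finite.one_lt_card (α := ↥(Subgroup.center (P : Subgroup G)))
    omega
  obtain ⟨z, hz⟩ := exists_prime_orderOf_dvd_card' (G := ↥(Subgroup.center (P : Subgroup G))) 2 hev'
  let S : Setup G :=
    { ti := h
      noA := hA
      z := ((z : ↥(P : Subgroup G)) : G)
      hz := by rw [Subgroup.orderOf_coe, Subgroup.orderOf_coe, hz]
      P := P
      hP := fun x hx => mem_cent.2 (congrArg Subtype.val (Subgroup.mem_center_iff.1 z.2 ⟨x, hx⟩)) }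
  obtain ⟨u, hu, huM⟩ := CfsgLib.StrongEmbedding.exists_involution_notMem S.se
  exact S.exists_psl hu huM

end CfsgLib.TICent79
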